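import Mathlib
import Groth.Agent.EGA41Quot.Criterion

/-!
# Regular points of a quotient of a regular ring, from independent first-order terms
-/

set_option autoImplicit false
set_option linter.style.haveILetI false
universe u

open IsLocalRing

namespace Groth.Agent.RegQuotPoint

/-- Independent elements cut a regular local ring in a regular one, with the expected dimension. -/
theorem regular_quot {R : Type u} [CommRing R] [IsRegularLocalRing R] {r d : ℕ} (x : Fin r → R)
    (hx : ∀ i, x i ∈ maximalIdeal R) (hdR : ringKrullDim R = (d + r : ℕ))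
    (hli : ∀ a : Fin r → R, ∑ i, a i * x i ∈ maximalIdeal R ^ 2 → ∀ i, a i ∈ maximalIdeal R) :
    IsRegularLocalRing (R ⧸ Ideal.span (Set.range x)) ∧ ringKrullDim (R ⧸ Ideal.span (Set.range x)) = d := by
  classical
  have hle : Ideal.span (Set.range x) ≤ maximalIdeal R := Ideal.span_le.2 (by rintro _ ⟨i, rfl⟩; exact hx i)
  haveI : Nontrivial (R ⧸ Ideal.span (Set.range x)) := Ideal.Quotient.nontrivial_iff.2 fun h =>
    (IsLocalRing.maximalIdeal.isMaximal R).ne_top (top_le_iff.1 (h ▸ hle))
  haveI : IsLocalRing (R ⧸ Ideal.span (Set.range x)) :=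
    IsLocalRing.of_surjective' (Ideal.Quotient.mk _) Ideal.Quotient.mk_surjective
  have hrk : Module.finrank (ResidueField R) (CotangentSpace R) = d + r := by
    have h := (IsRegularLocalRing.iff_finrank_cotangentSpace R).mp inferInstance
    rw [hdR] at h
    exact_mod_cast h
  have hs := EGA41Quot.spanFinrank_quotient_le x hx hrk ((EGA41Quot.linearIndependent_toCotangent_iff x hx).2 hli)
  have hdim := ringKrullDim_le_ringKrullDim_quotient_add_spanFinrank (Ideal.span (Set.range x))
    (hle.trans (by rw [← Ideal.jacobson_bot]; exact IsLocalRing.maximalIdeal_le_jacobson ⊥))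
  have hsp : (Ideal.span (Set.range x)).spanFinrank ≤ r := by
    refine (Submodule.spanFinrank_span_le_ncard_of_finite (Set.finite_range x)).trans ?_
    rw [← Nat.card_coe_set_eq]
    exact (Finite.card_range_le _).trans (by simp)
  have hge : (d : WithBot ℕ∞) ≤ ringKrullDim (R ⧸ Ideal.span (Set.range x)) := by
    rw [hdR] at hdim
    have h2 : ((Ideal.span (Set.range x)).spanFinrank : WithBot ℕ∞) ≤ (r : WithBot ℕ∞) := by exact_mod_cast hsp
    have h3 := hdim.trans (add_le_add le_rfl h2)
    obtain ⟨q, hq⟩ : ∃ q : ℕ∞, ringKrullDim (R ⧸ Ideal.span (Set.range x)) = q :=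
      WithBot.ne_bot_iff_exists.1 ringKrullDim_ne_bot |>.imp fun _ h => h.symm
    rw [hq] at h3 ⊢
    push_cast at h3
    have h4 : ((d : ℕ∞) + r : ℕ∞) ≤ q + r := by exact_mod_cast h3
    exact_mod_cast (ENat.add_le_add_iff_right (ENat.coe_ne_top r)).1 h4
  have hreg : IsRegularLocalRing (R ⧸ Ideal.span (Set.range x)) :=
    IsRegularLocalRing.of_spanFinrank_maximalIdeal_le _ (le_trans (by exact_mod_cast hs) hge)
  refine ⟨hreg, le_antisymm ?_ hge⟩
  have h := IsRegularLocalRing.spanFinrank_maximalIdeal (R := R ⧸ Ideal.span (Set.range x))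
  rw [← h]
  exact_mod_cast hs

/-- Localisation of a quotient. -/
theorem nonempty_equiv {A : Type u} [CommRing A] (I : Ideal A) (P : Ideal (A ⧸ I)) [P.IsPrime] (P0 : Ideal A)
    [P0.IsPrime] (hP : P0 = P.comap (Ideal.Quotient.mk I)) :
    Nonempty (Localization.AtPrime P ≃+* Localization.AtPrime P0 ⧸ I.map (algebraMap A (Localization.AtPrime P0))) := by
  let I' := I.map (algebraMap A (Localization.AtPrime P0))
  let f0 : (A ⧸ I) →+* Localization.AtPrime P0 ⧸ I' :=
    Ideal.quotientMap I' (algebraMap A (Localization.AtPrime P0)) Ideal.le_comap_map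
  let f : Localization.AtPrime P →+* Localization.AtPrime P0 ⧸ I' :=
    IsLocalization.lift (M := P.primeCompl) (g := f0) fun y => by
      obtain ⟨y, hy⟩ := y
      obtain ⟨z, rfl⟩ := Ideal.Quotient.mk_surjective y
      exact (IsLocalization.map_units (Localization.AtPrime P0) (⟨z, fun h => hy (hP.le h)⟩ : P0.primeCompl)).map
        (Ideal.Quotient.mk I')
  let g0 := Localization.localRingHom P0 P (Ideal.Quotient.mk I) hP
  have hg0 : I' ≤ RingHom.ker g0 := Ideal.map_le_iff_le_comap.2 fun z hz => by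
    show g0 (algebraMap A _ z) = 0
    rw [Localization.localRingHom_to_map, Ideal.Quotient.eq_zero_iff_mem.2 hz, map_zero]
  let g : Localization.AtPrime P0 ⧸ I' →+* Localization.AtPrime P := Ideal.Quotient.lift I' g0 hg0
  refine ⟨RingEquiv.ofRingHom f g (Ideal.Quotient.ringHom_ext (IsLocalization.ringHom_ext P0.primeCompl ?_))
    (IsLocalization.ringHom_ext P.primeCompl (Ideal.Quotient.ringHom_ext ?_))⟩
  · ext z
    show f (g0 (algebraMap A _ z)) = Ideal.Quotient.mk I' (algebraMap A _ z)
    rw [Localization.localRingHom_to_map, IsLocalization.lift_eq]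
    rfl
  · ext z
    show g (f (algebraMap _ _ (Ideal.Quotient.mk I z))) = algebraMap _ _ (Ideal.Quotient.mk I z)
    rw [IsLocalization.lift_eq]
    show g0 (algebraMap A _ z) = _
    rw [Localization.localRingHom_to_map]

/-- First order independence tested by dual-number valued points. -/
theorem indep_of_dual {R k : Type u} [CommRing R] [IsLocalRing R] [Field k] {r : ℕ} (x : Fin r → R)
    (φ : Fin r → (R →+* DualNumber k)) (hφ : ∀ j (z : R), z ∈ maximalIdeal R → TrivSqZeroExt.fst (φ j z) = 0)
    (hd : ∀ i j, TrivSqZeroExt.fst (φ j (x i)) = 0)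
    (hne : ∀ j, TrivSqZeroExt.snd (φ j (x j)) ≠ 0) (ho : ∀ i j, i ≠ j → TrivSqZeroExt.snd (φ j (x i)) = 0)
    (a : Fin r → R) (ha : ∑ i, a i * x i ∈ maximalIdeal R ^ 2) (j : Fin r) : a j ∈ maximalIdeal R := by
  classical
  have h2 : ∀ z ∈ maximalIdeal R ^ 2, TrivSqZeroExt.snd (φ j z) = 0 := by
    intro z hz
    rw [pow_two] at hz
    refine Submodule.mul_induction_on hz (fun p hp q hq => ?_) fun p q hp hq => by
      rw [map_add, TrivSqZeroExt.snd_add, hp, hq, add_zero]
    rw [map_mul, TrivSqZeroExt.snd_mul, hφ j p hp, hφ j q hq]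
    simp
  have h := h2 _ ha
  rw [map_sum, TrivSqZeroExt.snd_sum, Finset.sum_eq_single j (fun i _ hi => by
      rw [map_mul, TrivSqZeroExt.snd_mul, ho i j hi, hd i j]; simp)
    (fun h => absurd (Finset.mem_univ _) h), map_mul, TrivSqZeroExt.snd_mul, hd j j] at h
  simp at h
  have h0 : TrivSqZeroExt.fst (φ j (a j)) = 0 := h.resolve_right (hne j)
  by_contra hu
  have := ((IsLocalRing.notMem_maximalIdeal.1 hu).map (φ j)).map (TrivSqZeroExt.fstHom k k k)
  rw [show (TrivSqZeroExt.fstHom k k k) ((φ j) (a j)) = 0 from h0] at this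
  exact not_isUnit_zero this

end Groth.Agent.RegQuotPoint
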